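import Cfsg.Agent.Lib.Block.ThreeDeg.Basic

/-!
Coprime nonlinear degrees, derived subgroup not perfect.
-/

set_option autoImplicit false
set_option linter.unusedSectionVars false
set_option linter.style.haveILetI false

namespace Cfsg.Agent.Block.ThreeDeg

open Cfsg Cfsg.Agent Cfsg.Agent.Char Cfsg.Agent.Block
open scoped commutatorElement ComplexConjugate

universe u

variable {G : Type u} [Group G] [Fintype G]

/-- A linear character of the normal Sylow subgroup whose inertia group has index the degree. -/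
theorem exists_regular_linear {s : ℕ} [Fact s.Prime] (S : Sylow s G)
    [(S : Subgroup G).Normal] (hG : commutator G ≤ S) (η : IrrCharacter G)
    (hsr : ¬ s ∣ charDegree (η : G → ℂ)) :
    ∃ l : (S : Subgroup G) →* ℂˣ,
      (inertia (S : Subgroup G) fun n : (S : Subgroup G) => (l n : ℂ)).index =
        charDegree (η : G → ℂ) := by
  classical
  set N := (S : Subgroup G) with hN
  haveI := Fintype.ofFinite N
  obtain ⟨θ, hθ⟩ := exists_constituent_res N η
  obtain ⟨e, he, -⟩ := Ext.ratio_dvd_index' η.2 θ.2 hθ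
  have he' : charDegree (η : G → ℂ) = e * charDegree (θ : N → ℂ) :=
    PIto.charDeg_eq (by rw [he, charDeg_spec' θ, Nat.cast_mul])
  obtain ⟨i, hi⟩ := IsPGroup.iff_card.1 S.isPGroup'
  have hθ1 : charDegree (θ : N → ℂ) = 1 := by
    refine Nat.eq_one_of_dvd_coprimes (Nat.Coprime.pow_left i
      ((Fact.out : s.Prime).coprime_iff_not_dvd.2 hsr)) (hi ▸ IsIrr.degree_dvd_card θ.2 (charDeg_spec' θ))
      ⟨e, by rw [he', mul_comm]⟩
  obtain ⟨l, hl⟩ := linearHom_of_isCharacter (IsIrr.isCharacter θ.2) (by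
    rw [charDeg_spec' θ, hθ1, Nat.cast_one])
  refine ⟨l, ?_⟩
  rw [← hl]
  set T := inertia N (θ : N → ℂ) with hT
  have hNT : N ≤ T := le_inertia N (IsIrr.classFun θ.2)
  haveI := Fintype.ofFinite T
  obtain ⟨ψ, hψ, hind, hin⟩ := Corr.exists_correspondent N θ.2 hT hNT η.2 hθ
  haveI : (N.subgroupOf T).Normal := Subgroup.Normal.subgroupOf inferInstance _
  haveI : Fintype (N.subgroupOf T) := Fintype.ofFinite _
  set θT : N.subgroupOf T → ℂ := fun x => (θ : N → ℂ) ⟨((x : T) : G), x.2⟩ with hθT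
  have hθTi : IsIrrCharacter (N.subgroupOf T) θT :=
    IsIrr.comp_mulEquiv (Subgroup.subgroupOfEquivOfLe hNT) θ.2
  have hθT1 : θT 1 = ((1 : ℕ) : ℂ) := by
    show (θ : N → ℂ) 1 = _
    rw [charDeg_spec' θ, hθ1]
  have hTinv : ∀ (g : T) (n : N.subgroupOf T), θT ⟨g * n * g⁻¹,
      (inferInstance : (N.subgroupOf T).Normal).conj_mem (n : T) n.2 g⟩ = θT n := fun g n => by
    have h := congrFun ((mem_inertia N).mp g.2) ⟨((n : T) : G), n.2⟩
    simpa [conjN, hθT] using h
  have hord : Nat.Coprime (N.subgroupOf T).index (orderOf (detChar θT) * 1) := by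
    obtain ⟨δ, hδ⟩ := isCharacter_detChar hθTi
    rw [mul_one]
    refine Nat.Coprime.coprime_dvd_left (Subgroup.relIndex_dvd_index_of_le hNT) ?_
    refine Nat.Coprime.coprime_dvd_right (orderOf_dvd_of_pow_eq_one (n := Nat.card N) ?_) ?_
    · funext m
      rw [Pi.pow_apply, hδ, Pi.one_apply, ← Units.val_pow_eq_pow_val, ← map_pow,
        ← Nat.card_congr (Subgroup.subgroupOfEquivOfLe hNT).toEquiv, pow_card_eq_one', map_one,
        Units.val_one]
    · rw [hi]
      exact Nat.Coprime.pow_right i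
        (((Fact.out : s.Prime).coprime_iff_not_dvd.2 S.not_dvd_index).symm)
  obtain ⟨χ, hχ, hres⟩ := Ext.exists_extension_of_witness hθTi hTinv hθT1
    fun p hp => Ext.witness_of_coprime hθTi hord hp
  have hres' : (fun n : N.subgroupOf T => χ n) = θT := funext hres
  obtain ⟨hL, hmul⟩ := gallagher (N := N.subgroupOf T) hχ hψ (hres'.symm ▸ hθTi) (by
    rw [hres', hθT, Corr.classInner_subgroupOf N hNT (fun n : N => ψ ⟨(n : G), hNT n.2⟩), hin]
    exact hθ)
  set L := avgN (N.subgroupOf T) (ψ * fun g => conj (χ g)) with hLdef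
  have hker : ∀ n ∈ N.subgroupOf T, L n = L 1 := fun n hn => by
    rw [← mul_one n]
    exact avgN_mul_left (N.subgroupOf T) _ ⟨n, hn⟩ 1
  obtain ⟨L', hL', hLe⟩ := IsIrr.exists_factor_quotient hL (N.subgroupOf T) hker
  have h1 := IsIrr.one_of_comm (G := T ⧸ N.subgroupOf T) (fun u v => by
    induction u using QuotientGroup.induction_on with | _ u =>
    induction v using QuotientGroup.induction_on with | _ v =>
    rw [← QuotientGroup.mk_mul, ← QuotientGroup.mk_mul, QuotientGroup.eq, Subgroup.mem_subgroupOf]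
    rw [show (u * v)⁻¹ * (v * u) = ⁅v⁻¹, u⁻¹⁆ by rw [commutatorElement_def]; group]
    refine hG ?_
    rw [← T.coe_subtype, map_commutatorElement]
    exact Subgroup.commutator_mem_commutator (Subgroup.mem_top _) (Subgroup.mem_top _)) hL'
  rw [← QuotientGroup.mk_one, hLe] at h1
  have hψ1 : ψ 1 = 1 := by
    rw [← hmul, Pi.mul_apply, h1, mul_one, show (1 : T) = ((1 : N.subgroupOf T) : T) from rfl,
      hres, hθT1, Nat.cast_one]
  have := congrFun hind 1
  rw [indFun_one_eq, hψ1, mul_one, charDeg_spec' η] at this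
  exact_mod_cast this

theorem exists_dvd_succ_mul {N x : ℕ} [NeZero N] (h : x.Coprime N) : ∃ j : ℕ, N ∣ 1 + j * x := by
  refine ⟨(-(x : ZMod N)⁻¹).val, (ZMod.natCast_eq_zero_iff _ _).1 ?_⟩
  push_cast
  rw [ZMod.natCast_zmod_val, neg_mul, mul_comm, ZMod.coe_mul_inv_eq_one x h, add_neg_cancel]

/-- The key step: a quotient with a regular linear orbit of size `r`. -/
theorem degrees_below {r c : ℕ} (h : DegIn G r c) (hr1 : 1 < r) (hcop : r.Coprime c)
    (K : Subgroup G) [K.Normal] {s : ℕ} [Fact s.Prime] (S : Sylow s (G ⧸ K))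
    [(S : Subgroup (G ⧸ K)).Normal] [Fintype (G ⧸ K)]
    (hidx : Nat.Coprime c (S : Subgroup (G ⧸ K)).index) (hsr : ¬ s ∣ r)
    (l : (S : Subgroup (G ⧸ K)) →* ℂˣ)
    (hl : (inertia (S : Subgroup (G ⧸ K)) fun n : (S : Subgroup (G ⧸ K)) => (l n : ℂ)).index = r)
    (F : Subgroup G) [F.Normal] [Fintype F] (hF : F = (S : Subgroup (G ⧸ K)).comap (QuotientGroup.mk' K)) :
    ∀ θ : IrrCharacter F, charDegree (θ : F → ℂ) = 1 ∨ charDegree (θ : F → ℂ) = c := by
  classical
  intro θ
  by_contra hno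
  rw [not_or] at hno
  set x := charDegree (θ : F → ℂ) with hx
  set π := QuotientGroup.mk' K with hπ
  have hπs : Function.Surjective π := QuotientGroup.mk'_surjective K
  have hFidx : F.index = (S : Subgroup (G ⧸ K)).index := hF ▸ Subgroup.index_comap_of_surjective _ hπs
  obtain ⟨χ, e, hχe, hed⟩ := exists_over_deg F θ
  have hxr : x ∣ r := by
    rcases h χ with h1 | h1 | h1
    · exact absurd (Nat.dvd_one.1 ⟨e, by rw [← h1, hχe, mul_comm]⟩) hno.1
    · exact ⟨e, by rw [← h1, hχe, mul_comm]⟩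
    · have he1 : e = 1 := Nat.eq_one_of_dvd_coprimes hidx ⟨x, by rw [← h1, hχe]⟩ (hFidx ▸ hed)
      exact absurd (by rw [← h1, hχe, he1, one_mul]) hno.2
  have hs : s.Prime := Fact.out
  obtain ⟨ν, hν⟩ := isCharacter_detChar θ.2
  set k := (Nat.card F).factorization s with hk
  set m := Nat.card F / s ^ k with hm
  have hxs : x.Coprime s := ((hs.coprime_iff_not_dvd.2 fun hd => hsr (hd.trans hxr))).symm
  haveI : NeZero (s ^ k) := ⟨pow_ne_zero _ hs.ne_zero⟩
  obtain ⟨j, q, hj⟩ := exists_dvd_succ_mul (hxs.pow_right k)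
  let f : F →* (S : Subgroup (G ⧸ K)) := (π.comp F.subtype).codRestrict (S : Subgroup (G ⧸ K))
    fun n => by have := n.2; simp only [hF, Subgroup.mem_comap] at this; exact this
  set μ : F →* ℂˣ := ν ^ j * l.comp f with hμ
  set τ : F → ℂ := fun n => (μ n : ℂ) * (θ : F → ℂ) n with hτ
  have hτi : IsIrrCharacter F τ := IsIrr.mul_linear θ.2 μ
  have hτ1 : τ 1 = (x : ℂ) := by simp [hτ, charDeg_spec' θ, hx]
  have hdet : ∀ n : F, detChar τ n = ((ν n ^ (1 + j * x) * l (f n) ^ x : ℂˣ) : ℂ) := by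
    intro n
    rw [hτ, detChar_mul_linear θ.2 (by rw [charDeg_spec' θ]) μ, hν]
    simp only [hμ, MonoidHom.mul_apply, MonoidHom.pow_apply, MonoidHom.comp_apply, Units.val_mul,
      Units.val_pow_eq_pow_val, mul_pow, ← pow_mul, ← hx]
    ring
  have hcard : s ^ k * m = Nat.card F := Nat.ordProj_mul_ordCompl_eq_self _ _
  have hνm : ∀ n : F, (ν n ^ (1 + j * x)) ^ m = 1 := fun n => by
    rw [← pow_mul, hj, mul_assoc, mul_comm q, ← mul_assoc, hcard, pow_mul, ← map_pow,
      pow_card_eq_one', map_one, one_pow]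
  obtain ⟨i, hi⟩ := IsPGroup.iff_card.1 S.isPGroup'
  have hcopi : Nat.Coprime (x * m) (s ^ i) := Nat.Coprime.pow_right i
    (Nat.Coprime.mul_left hxs (hs.coprime_iff_not_dvd.2
      (Nat.not_dvd_ordCompl hs Nat.card_pos.ne')).symm)
  have hle : inertia F τ ≤
      (inertia (S : Subgroup (G ⧸ K)) fun n : (S : Subgroup (G ⧸ K)) => (l n : ℂ)).comap π := by
    intro g hg
    rw [Subgroup.mem_comap, mem_inertia]
    funext u
    obtain ⟨g₀, hg₀⟩ := hπs (u : G ⧸ K)
    have hgF : g₀ ∈ F := by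
      rw [hF, Subgroup.mem_comap, hg₀]
      exact u.2
    set n : F := ⟨g₀, hgF⟩
    set n' : F := conjEquivN F g n with hn'
    have hfu : f n = u := Subtype.ext hg₀
    have hfu' : (f n' : G ⧸ K) = π g * u * (π g)⁻¹ := by
      show π ((n' : F) : G) = _
      rw [hn', conjEquivN_apply]
      simp [n, hg₀]
    have hd := detChar_comp hτi (conjEquivN F g).toMonoidHom hτi (fun y => by
      have := congrFun ((mem_inertia F).1 hg) y
      rw [conjN_eq_comp] at this
      exact this) n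
    rw [hdet, MulEquiv.coe_toMonoidHom, ← hn', hdet] at hd
    have hd' := congrArg (fun z : ℂˣ => z ^ m) (Units.ext hd :
      ν n ^ (1 + j * x) * l (f n) ^ x = ν n' ^ (1 + j * x) * l (f n') ^ x)
    simp only [mul_pow, hνm, one_mul, ← pow_mul] at hd'
    have hz : l (f n') * (l (f n))⁻¹ = 1 := by
      refine orderOf_eq_one_iff.1 (Nat.eq_one_of_dvd_coprimes hcopi
        (orderOf_dvd_of_pow_eq_one ?_) (orderOf_dvd_of_pow_eq_one ?_))
      · rw [mul_pow, inv_pow, hd', mul_inv_cancel]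
      · rw [← hi, mul_pow, inv_pow, ← map_pow l, ← map_pow l, pow_card_eq_one', pow_card_eq_one',
          map_one, mul_inv_cancel]
    rw [conjN_apply, ← hfu, mul_inv_eq_one.1 hz |>.symm]
    congr 2
  have hridx : r ∣ (inertia F τ).index := by
    rw [← hl, ← Subgroup.index_comap_of_surjective _ hπs]
    exact Subgroup.index_dvd_of_le hle
  have hidxF : (inertia F τ).index ∣ F.index :=
    Subgroup.index_dvd_of_le (le_inertia F (IsIrr.classFun hτi))
  obtain ⟨χ', hχ'⟩ := exists_over F (⟨τ, hτi⟩ : IrrCharacter F)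
  obtain ⟨a, ha, -⟩ := IsChar.exists_decomp_inner (IsChar.res (IsIrr.isCharacter χ'.2) F)
  have hd' : charDegree (χ' : G → ℂ) = a ⟨τ, hτi⟩ * (inertia F τ).index * x := PIto.charDeg_eq (by
    rw [clifford_one F χ'.2 hτi hχ', ha ⟨τ, hτi⟩, hτ1, Nat.cast_mul, Nat.cast_mul])
  have hrd : r * x ∣ charDegree (χ' : G → ℂ) := hd' ▸
    mul_dvd_mul_right (hridx.trans (dvd_mul_left _ _)) _
  have hrd' : r ∣ charDegree (χ' : G → ℂ) := (dvd_mul_right r x).trans hrd
  rcases h χ' with h1 | h1 | h1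
  · rw [h1] at hrd'
    exact absurd (Nat.dvd_one.1 hrd') hr1.ne'
  · rw [h1] at hrd
    exact hno.1 (Nat.dvd_one.1 (Nat.dvd_of_mul_dvd_mul_left (k := r) (by omega)
      (by rw [mul_one]; exact hrd)))
  · rw [h1] at hrd'
    exact absurd (Nat.eq_one_of_dvd_coprimes hcop dvd_rfl hrd') hr1.ne'

/-- Coprime degrees with nonperfect derived subgroup. -/
theorem derived_three_of_metabelian {a b : ℕ} (h : DegIn G a b) (ha1 : 1 < a) (hb1 : 1 < b)
    (hcop : a.Coprime b) (hG : ¬ commutator G ≤ derivedSeries G 2)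
    (ha : ∃ χ : IrrCharacter G, charDegree (χ : G → ℂ) = a)
    (hb : ∃ χ : IrrCharacter G, charDegree (χ : G → ℂ) = b) : derivedSeries G 3 = ⊥ := by
  classical
  haveI : (derivedSeries G 2).Normal := derivedSeries_normal G 2
  obtain ⟨K, ⟨hKn, hK2, hK⟩, hmax⟩ := Set.Finite.exists_maximal
    (s := {K : Subgroup G | K.Normal ∧ derivedSeries G 2 ≤ K ∧ ¬ commutator G ≤ K}) (Set.toFinite _)
    ⟨derivedSeries G 2, inferInstance, le_rfl, hG⟩
  haveI := hKn
  haveI := Fintype.ofFinite (G ⧸ K)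
  set f := QuotientGroup.mk' K with hf
  have hfs : Function.Surjective f := QuotientGroup.mk'_surjective K
  have hne : commutator (G ⧸ K) ≠ ⊥ := fun e => hK (by
    rw [commutator_def, Subgroup.commutator_le]
    intro u _ v _
    rw [← QuotientGroup.ker_mk' K, MonoidHom.mem_ker, map_commutatorElement, ← Subgroup.mem_bot, ← e]
    exact Subgroup.commutator_mem_commutator (Subgroup.mem_top _) (Subgroup.mem_top _))
  have hmin : ∀ M : Subgroup (G ⧸ K), M.Normal → M ≠ ⊥ → commutator (G ⧸ K) ≤ M := by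
    intro M hM hMne
    have hle : K ≤ M.comap f := fun k hk => by
      rw [Subgroup.mem_comap, hf, QuotientGroup.mk'_apply, (QuotientGroup.eq_one_iff k).2 hk]
      exact M.one_mem
    have hM' : commutator G ≤ M.comap f := by
      by_contra hno
      refine hMne (eq_bot_iff.2 fun x hx => Subgroup.mem_bot.2 ?_)
      obtain ⟨g, rfl⟩ := hfs x
      exact (QuotientGroup.eq_one_iff g).2 (hmax ⟨hM.comap f, hK2.trans hle, hno⟩ hle hx)
    rw [commutator_def, Subgroup.commutator_le]
    intro u _ v _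
    obtain ⟨u', rfl⟩ := hfs u
    obtain ⟨v', rfl⟩ := hfs v
    rw [← map_commutatorElement]
    exact hM' (Subgroup.commutator_mem_commutator (Subgroup.mem_top u') (Subgroup.mem_top v'))
  haveI : Group.IsSolvable (G ⧸ K) := (isSolvable_def _).2 ⟨2, eq_bot_iff.2 fun x hx => by
    obtain ⟨g, hg, rfl⟩ := derivedSeries_le_map_derivedSeries hfs 2 hx
    exact Subgroup.mem_bot.2 ((QuotientGroup.eq_one_iff g).2 (hK2 hg))⟩
  obtain ⟨η, hη1⟩ := PrimeNL.exists_nonlinear hne
  set r := charDegree (η : G ⧸ K → ℂ) with hr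
  obtain ⟨c, hrc, hcop', hc, hc1, hr1⟩ : ∃ c, DegIn G r c ∧ r.Coprime c ∧
      (∃ χ : IrrCharacter G, charDegree (χ : G → ℂ) = c) ∧ 1 < c ∧ 1 < r := by
    rcases h.quotient K η with h1 | h1 | h1
    · exact absurd h1 hη1
    · exact ⟨b, (hr.trans h1).symm ▸ h, (hr.trans h1).symm ▸ hcop, hb, hb1, (hr.trans h1).symm ▸ ha1⟩
    · exact ⟨a, (hr.trans h1).symm ▸ h.symm, (hr.trans h1).symm ▸ hcop.symm, ha, ha1,
        (hr.trans h1).symm ▸ hb1⟩
  obtain ⟨s, hs, hsQ, hprimes⟩ := PrimeNL.two_primes_sylow hne hmin hη1 rfl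
  haveI := Fact.mk hs
  obtain ⟨χ, hχ⟩ := hc
  have hsc : s ∣ c := by
    by_contra hsc
    have hcopK : Nat.Coprime (charDegree (χ : G → ℂ)) K.index := by
      rw [hχ]
      refine Nat.coprime_of_dvd fun t ht htc htK => ?_
      rcases hprimes t ht (Subgroup.index_eq_card K ▸ htK) with h2 | h2
      · exact ht.ne_one (Nat.eq_one_of_dvd_coprimes hcop' h2 htc)
      · exact hsc (h2 ▸ htc)
    obtain ⟨φ, hφ⟩ := PrimeNL.mul_mem_of_coprime K χ η hcopK
    have hlt : r < c * r := lt_mul_left (by omega) hc1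
    have hlt' : c < c * r := lt_mul_right (by omega) hr1
    rw [hχ, ← hr] at hφ
    rcases hrc φ with h2 | h2 | h2 <;> omega
  have hsr : ¬ s ∣ r := fun hd => hs.ne_one (Nat.eq_one_of_dvd_coprimes hcop' hd hsc)
  obtain ⟨S, hS⟩ := hsQ.exists_le_sylow
  haveI : (S : Subgroup (G ⧸ K)).Normal := PrimeNL.normal_of_commutator_le hS
  have hidx : Nat.Coprime c (S : Subgroup (G ⧸ K)).index := by
    refine Nat.coprime_of_dvd fun t ht htc htS => ?_
    rcases hprimes t ht (htS.trans (Subgroup.index_dvd_card _)) with h2 | h2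
    · exact ht.ne_one (Nat.eq_one_of_dvd_coprimes hcop' h2 htc)
    · exact S.not_dvd_index (h2 ▸ htS)
  obtain ⟨l, hl⟩ := exists_regular_linear S hS η hsr
  set F := (S : Subgroup (G ⧸ K)).comap f with hF
  haveI : F.Normal := (inferInstance : (S : Subgroup (G ⧸ K)).Normal).comap f
  haveI := Fintype.ofFinite F
  have hdeg := degrees_below hrc hr1 hcop' K S hidx hsr l hl F hF
  have h1 : derivedSeries G 1 ≤ (derivedSeries F 0).map F.subtype := by
    rw [derivedSeries_one, derivedSeries_zero, ← MonoidHom.range_eq_map, Subgroup.range_subtype,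
      commutator_def, Subgroup.commutator_le]
    intro u _ v _
    rw [hF, Subgroup.mem_comap, map_commutatorElement]
    exact hS (Subgroup.commutator_mem_commutator (Subgroup.mem_top _) (Subgroup.mem_top _))
  have h3 := series_succ (series_succ h1)
  rw [derived_two hdeg, Subgroup.map_bot] at h3
  exact eq_bot_iff.2 h3

end Cfsg.Agent.Block.ThreeDeg
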