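import Cfsg.Agent.Lib.Block.ThreeDeg.Perfect
import Cfsg.Agent.Lib.Block.ThreeDeg.Metabelian
import Cfsg.Agent.Lib.Char.BrauerInduction
import Cfsg.Agent.Lib.Char.ResidualDegree

/-!
A finite group with degrees in `{1, a, b}` has derived length at most three.
-/

set_option autoImplicit false
set_option linter.unusedSectionVars false
set_option linter.style.haveILetI false

namespace Cfsg.Agent.Block.ThreeDeg

open Cfsg Cfsg.Agent Cfsg.Agent.Char Cfsg.Agent.Block
open scoped commutatorElement ComplexConjugate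

universe u

theorem ordCompl_of_mul {p : ℕ} (hp : p.Prime) {e x k : ℕ} (he : e ∣ p ^ k) (hx : ¬ p ∣ x) :
    x = (e * x) / p ^ (e * x).factorization p := by
  obtain ⟨i, -, rfl⟩ := (Nat.dvd_prime_pow hp).1 he
  have hx0 : x ≠ 0 := fun h0 => hx (h0 ▸ dvd_zero p)
  have h1 : (p ^ i * x).factorization p = i := by
    rw [Nat.factorization_mul (pow_ne_zero _ hp.ne_zero) hx0, Finsupp.add_apply,
      Nat.factorization_eq_zero_of_not_dvd hx, Nat.Prime.factorization_pow hp, Finsupp.single_eq_same,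
      add_zero]
  rw [h1, Nat.mul_div_cancel_left _ (pow_pos hp.pos _)]

variable {G : Type u} [Group G] [Fintype G]

/-- In a nilpotent group with degrees in `{1, a, b}`, small degree characters kill the second
derived subgroup and all characters kill the third. -/
theorem nilpotent_kills (hnil : Group.IsNilpotent G) {a b : ℕ} (h : DegIn G a b) (hab : a < b) :
    (∀ φ : IrrCharacter G, charDegree (φ : G → ℂ) < b →
      ∀ g ∈ derivedSeries G 2, (φ : G → ℂ) g = (φ : G → ℂ) 1) ∧ derivedSeries G 3 = ⊥ := by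
  have hlin : ∀ φ : IrrCharacter G, charDegree (φ : G → ℂ) = 1 →
      ∀ n : ℕ, 1 ≤ n → ∀ g ∈ derivedSeries G n, (φ : G → ℂ) g = (φ : G → ℂ) 1 := fun φ h1 n hn g hg =>
    linear_kills h1 g (derivedSeries_one G ▸ derivedSeries_antitone G hn hg)
  have hsmall : ∀ φ : IrrCharacter G, charDegree (φ : G → ℂ) < b →
      ∀ g ∈ derivedSeries G 2, (φ : G → ℂ) g = (φ : G → ℂ) 1 := by
    intro φ hφ
    rcases h φ with h1 | h1 | h1
    · exact hlin φ h1 2 one_le_two
    · obtain ⟨U, l, hl⟩ := Brauer.monomial hnil φ.2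
      rw [derivedSeries_succ]
      haveI := derivedSeries_normal G 1
      refine kills_commutator _ φ U l hl fun ψ hψ => ?_
      rcases h ψ with h2 | h2 | h2
      · exact hlin ψ h2 1 le_rfl
      · omega
      · omega
    · omega
  refine ⟨hsmall, eq_bot_iff.2 fun g hg => Subgroup.mem_bot.2 (eq_one_of_kills fun φ => ?_)⟩
  rcases h φ with h1 | h1 | h1
  · exact hlin φ h1 3 (by omega) g hg
  · exact hsmall φ (by omega) g (derivedSeries_antitone G (by omega : 2 ≤ 3) hg)
  · obtain ⟨U, l, hl⟩ := Brauer.monomial hnil φ.2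
    haveI := derivedSeries_normal G 2
    rw [derivedSeries_succ] at hg
    exact kills_commutator _ φ U l hl (fun ψ hψ => hsmall ψ (by omega)) g hg

/-- Abelian normal Hall subgroup with nilpotent quotient. -/
theorem derived_three_of_abelian_hall {a b : ℕ} (h : DegIn G a b) (hab : a < b)
    (H : Subgroup G) [H.Normal] [Fintype H] (hH : ∀ θ : IrrCharacter H, charDegree (θ : H → ℂ) = 1)
    (hnil : Group.IsNilpotent (G ⧸ H)) (hcop : (Nat.card H).Coprime H.index) (hb1 : 1 ≤ b) :
    derivedSeries G 3 = ⊥ := by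
  classical
  haveI := Fintype.ofFinite (G ⧸ H)
  obtain ⟨hsmall, hP3⟩ := nilpotent_kills hnil (h.quotient H) hab
  have hcomm : ∀ x y : H, x * y = y * x := (comm_iff_linear H).2 hH
  have hH3 : derivedSeries G 3 ≤ H := derivedSeries_le_of_quotient H hP3
  -- the second derived subgroup fixes all linear characters
  have hfix : ∀ g ∈ derivedSeries G 2, ∀ l : H →* ℂˣ, ∀ n : H, l (conjEquivN H g n) = l n := by
    intro g hg l n
    set θ : IrrCharacter H := ⟨fun k => (l k : ℂ), isIrr_linear l⟩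
    set T := inertia H (θ : H → ℂ) with hT
    have hHT : H ≤ T := le_inertia H (IsIrr.classFun θ.2)
    obtain ⟨χ, hχ⟩ := exists_over H θ
    obtain ⟨c, hc, -⟩ := IsChar.exists_decomp_inner (IsChar.res (IsIrr.isCharacter χ.2) H)
    have hd : charDegree (χ : G → ℂ) = c θ * T.index := PIto.charDeg_eq (by
      rw [clifford_one H χ.2 θ.2 hχ, hc θ, Nat.cast_mul]
      simp [θ, hT])
    have hTb : T.index ≤ b := by
      refine (Nat.le_of_dvd (Char.TwoDeg.deg_pos χ) ⟨c θ, by rw [hd, mul_comm]⟩).trans ?_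
      rcases h χ with h1 | h1 | h1 <;> omega
    have hle : derivedSeries (G ⧸ H) 2 ≤ T.map (QuotientGroup.mk' H) :=
      le_of_kills _ _ fun φ hφ => hsmall φ (by
        rw [Subgroup.index_map_eq _ (QuotientGroup.mk'_surjective H)
          (by rw [QuotientGroup.ker_mk']; exact hHT)] at hφ
        omega)
    have hgT : g ∈ T := by
      rw [← Subgroup.comap_map_eq_self (f := QuotientGroup.mk' H) (H := T)
        (by rw [QuotientGroup.ker_mk']; exact hHT)]
      exact hle (map_derivedSeries_le_derivedSeries (QuotientGroup.mk' H) 2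
        (Subgroup.mem_map_of_mem _ hg))
    have h2 := congrFun ((mem_inertia H).1 hgT) n
    rw [conjN_eq_comp] at h2
    exact Units.ext h2
  have hcen : ∀ g ∈ derivedSeries G 2, ∀ n ∈ H, g * n = n * g := by
    intro g hg n hn
    have h1 : conjEquivN H g ⟨n, hn⟩ * (⟨n, hn⟩ : H)⁻¹ = 1 :=
      eq_one_of_forall_linear hcomm fun l => by rw [map_mul, map_inv, hfix g hg l, mul_inv_cancel]
    have h2 := congrArg Subtype.val (mul_inv_eq_one.1 h1)
    rw [conjEquivN_apply] at h2
    exact mul_inv_eq_iff_eq_mul.1 h2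
  rw [derivedSeries_succ, eq_bot_iff, Subgroup.commutator_le]
  intro x hx y hy
  have hcH : ⁅x, y⁆ ∈ H := hH3 (by
    rw [derivedSeries_succ]
    exact Subgroup.commutator_mem_commutator hx hy)
  set c := ⁅x, y⁆ with hc
  have hxy : x * y * x⁻¹ = c * y := by rw [hc, commutatorElement_def, inv_mul_cancel_right]
  have hxc : x * c * x⁻¹ = c := by rw [hcen x hx c hcH, mul_inv_cancel_right]
  have hpow : ∀ k : ℕ, x ^ k * y * (x ^ k)⁻¹ = c ^ k * y := by
    intro k
    induction k with
    | zero => simp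
    | succ k ih =>
      calc x ^ (k + 1) * y * (x ^ (k + 1))⁻¹ = x * (x ^ k * y * (x ^ k)⁻¹) * x⁻¹ := by
            rw [pow_succ']; group
        _ = (x * c * x⁻¹) ^ k * (x * y * x⁻¹) := by rw [ih, conj_pow]; group
        _ = c ^ (k + 1) * y := by rw [hxc, hxy, pow_succ, mul_assoc]
  have h1 := hpow H.index
  rw [← hcen y hy _ (H.pow_index_mem x), mul_inv_cancel_right] at h1
  have hord : orderOf c ∣ H.index := orderOf_dvd_of_pow_eq_one (mul_eq_right.1 h1.symm)
  have hord' : orderOf c ∣ Nat.card H := by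
    rw [← Subgroup.orderOf_mk (H := H) c hcH]
    exact orderOf_dvd_natCard _
  exact Subgroup.mem_bot.2 (orderOf_eq_one_iff.1 (Nat.eq_one_of_dvd_coprimes hcop hord' hord))

/-- The degree of a character of `G ⧸ ⁅H, H⁆` divides the index of `H`. -/
theorem deg_dvd_index_of_kills (H : Subgroup G) [H.Normal] [Fintype H] (χ : IrrCharacter G)
    (hk : ∀ g ∈ ⁅H, H⁆, (χ : G → ℂ) g = (χ : G → ℂ) 1) :
    charDegree (χ : G → ℂ) ∣ H.index := by
  obtain ⟨θ, hθ⟩ := exists_constituent_res H χ
  obtain ⟨e, he, hed⟩ := Ext.ratio_dvd_index' χ.2 θ.2 hθ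
  have hker : ∀ n ∈ commutator H, (θ : H → ℂ) n = (θ : H → ℂ) 1 := by
    intro n hn
    refine constituent_ker (IsChar.res (IsIrr.isCharacter χ.2) H) θ.2 hθ ?_
    show (χ : G → ℂ) (n : G) = _
    rw [Subgroup.coe_one]
    refine hk _ ?_
    have := Subgroup.mem_map_of_mem H.subtype hn
    rwa [commutator_def, Subgroup.map_commutator, ← MonoidHom.range_eq_map,
      Subgroup.range_subtype] at this
  obtain ⟨ψ, hψ, hψθ⟩ := IsIrr.exists_factor_quotient θ.2 (commutator H) hker
  have h1 := IsIrr.one_of_comm (G := H ⧸ commutator H) (fun u v => by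
    induction u using QuotientGroup.induction_on with | _ u =>
    induction v using QuotientGroup.induction_on with | _ v =>
    rw [← QuotientGroup.mk_mul, ← QuotientGroup.mk_mul, QuotientGroup.eq]
    rw [show (u * v)⁻¹ * (v * u) = ⁅v⁻¹, u⁻¹⁆ by rw [commutatorElement_def]; group]
    exact Subgroup.commutator_mem_commutator (Subgroup.mem_top _) (Subgroup.mem_top _)) hψ
  rw [← QuotientGroup.mk_one, hψθ] at h1
  rw [h1, mul_one] at he
  rwa [PIto.charDeg_eq he]

/-- Common prime divisor: reduce to the normal `p`-complement. -/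
theorem derived_three_of_common_prime {a b p : ℕ} [Fact p.Prime] (h : DegIn G a b) (hab : a < b)
    (hpa : p ∣ a) (hpb : p ∣ b) (hb : ∃ χ : IrrCharacter G, charDegree (χ : G → ℂ) = b)
    (IH : ∀ (H : Subgroup G) [Fintype H], Nat.card H < Nat.card G →
      ∀ a' b' : ℕ, DegIn H a' b' → derivedSeries H 3 = ⊥) :
    derivedSeries G 3 = ⊥ := by
  classical
  have hp : p.Prime := Fact.out
  have hdeg : ∀ χ : IrrCharacter G, charDegree (χ : G → ℂ) ≠ 1 →
      p ∣ charDegree (χ : G → ℂ) := fun χ hχ => by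
    rcases h χ with h1 | h1 | h1
    exacts [absurd h1 hχ, h1 ▸ hpa, h1 ▸ hpb]
  set H := pResidual p G with hHdef
  haveI : H.Normal := ResDeg.residual_normal
  haveI := Fintype.ofFinite H
  obtain ⟨k, hk⟩ : ∃ k, H.index = p ^ k := ResDeg.exists_index
  have hcop : (Nat.card H).Coprime p := ResDeg.residual_coprime hdeg
  have hlt : Nat.card H < Nat.card G := by
    refine lt_of_le_of_ne (Nat.le_of_dvd Nat.card_pos H.card_subgroup_dvd_card) fun he => ?_
    obtain ⟨χ, hχ⟩ := hb
    exact hp.ne_one (Nat.eq_one_of_dvd_coprimes hcop (he ▸ hpb.trans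
      (IsIrr.degree_dvd_card χ.2 (by rw [charDeg_spec' χ, hχ]))) dvd_rfl)
  set a' := a / p ^ a.factorization p with ha'
  set b' := b / p ^ b.factorization p with hb'
  have hH : DegIn H a' b' := by
    intro θ
    obtain ⟨χ, e, he, hed⟩ := exists_over_deg H θ
    have hx : ¬ p ∣ charDegree (θ : H → ℂ) := fun hd => hp.ne_one (Nat.eq_one_of_dvd_coprimes hcop
      (hd.trans (IsIrr.degree_dvd_card θ.2 (charDeg_spec' θ))) dvd_rfl)
    have h2 := ordCompl_of_mul hp (hk ▸ hed) hx
    rw [← he] at h2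
    rcases h χ with h1 | h1 | h1 <;> rw [h1] at h2
    · exact Or.inl (by simpa using h2)
    · exact Or.inr (Or.inl h2)
    · exact Or.inr (Or.inr h2)
  -- degrees of the quotient by the derived subgroup of `H`
  have hbar : ∀ χ : IrrCharacter (G ⧸ ⁅H, H⁆), charDegree (χ : G ⧸ ⁅H, H⁆ → ℂ) = 1 ∨
      (charDegree (χ : G ⧸ ⁅H, H⁆ → ℂ) = a ∧ a' = 1) ∨
      (charDegree (χ : G ⧸ ⁅H, H⁆ → ℂ) = b ∧ b' = 1) := by
    intro χ
    let χ' : IrrCharacter G := ⟨fun g => (χ : G ⧸ ⁅H, H⁆ → ℂ) (QuotientGroup.mk' ⁅H, H⁆ g),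
      IsIrr.comp_surjective _ (QuotientGroup.mk'_surjective _) χ.2⟩
    have he : charDegree (χ' : G → ℂ) = charDegree (χ : G ⧸ ⁅H, H⁆ → ℂ) := by simp [χ', charDegree]
    have hd := deg_dvd_index_of_kills H χ' fun g hg => by
      show (χ : G ⧸ ⁅H, H⁆ → ℂ) _ = (χ : G ⧸ ⁅H, H⁆ → ℂ) _
      rw [map_one, QuotientGroup.mk'_apply, (QuotientGroup.eq_one_iff g).2 hg]
    rw [hk, he] at hd
    have h2 := ordCompl_of_mul hp (x := 1) hd hp.not_dvd_one
    rw [mul_one] at h2
    rcases h χ' with h1 | h1 | h1 <;> rw [he] at h1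
    · exact Or.inl h1
    · exact Or.inr (Or.inl ⟨h1, by rw [h1] at h2; exact h2.symm⟩)
    · exact Or.inr (Or.inr ⟨h1, by rw [h1] at h2; exact h2.symm⟩)
  have hmap : (derivedSeries H 1).map H.subtype = ⁅H, H⁆ := by
    rw [derivedSeries_succ, derivedSeries_zero, Subgroup.map_commutator, ← MonoidHom.range_eq_map,
      Subgroup.range_subtype]
  -- two degrees on `H`, one extra degree on the quotient
  have two : ∀ c x : ℕ, (∀ θ : IrrCharacter H, charDegree (θ : H → ℂ) = 1 ∨
      charDegree (θ : H → ℂ) = c) → (∀ χ : IrrCharacter (G ⧸ ⁅H, H⁆),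
      charDegree (χ : G ⧸ ⁅H, H⁆ → ℂ) = 1 ∨ charDegree (χ : G ⧸ ⁅H, H⁆ → ℂ) = x) →
      derivedSeries G 3 = ⊥ := by
    intro c x hc hx
    have h1 := derivedSeries_le_of_quotient ⁅H, H⁆ (derived_two hx)
    rw [← hmap] at h1
    have h2 := series_succ h1
    rw [derived_two hc, Subgroup.map_bot] at h2
    exact eq_bot_iff.2 h2
  by_cases ha1 : a' = 1
  · by_cases hb1 : b' = 1
    · have hnil : Group.IsNilpotent (G ⧸ H) :=
        (IsPGroup.of_card (n := k) (by rw [← hk, Subgroup.index_eq_card])).isNilpotent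
      refine derived_three_of_abelian_hall h hab H (fun θ => ?_) hnil
        (hk ▸ hcop.pow_right k) (by omega)
      rcases hH θ with h1 | h1 | h1
      exacts [h1, h1.trans ha1, h1.trans hb1]
    · refine two b' a (fun θ => ?_) fun χ => ?_
      · rcases hH θ with h1 | h1 | h1
        exacts [Or.inl h1, Or.inl (h1.trans ha1), Or.inr h1]
      · rcases hbar χ with h1 | h1 | h1
        exacts [Or.inl h1, Or.inr h1.1, absurd h1.2 hb1]
  · by_cases hb1 : b' = 1
    · refine two a' b (fun θ => ?_) fun χ => ?_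
      · rcases hH θ with h1 | h1 | h1
        exacts [Or.inl h1, Or.inr h1, Or.inl (h1.trans hb1)]
      · rcases hbar χ with h1 | h1 | h1
        exacts [Or.inl h1, absurd h1.2 ha1, Or.inr h1.1]
    · have hlin : ∀ χ : IrrCharacter (G ⧸ ⁅H, H⁆), charDegree (χ : G ⧸ ⁅H, H⁆ → ℂ) = 1 := fun χ => by
        rcases hbar χ with h1 | h1 | h1
        exacts [h1, absurd h1.2 ha1, absurd h1.2 hb1]
      have h1 := derivedSeries_le_of_quotient ⁅H, H⁆ (n := 1)
        (by rw [derivedSeries_one]; exact comm_of_all_linear hlin)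
      rw [← hmap] at h1
      have h2 := series_succ (series_succ h1)
      rw [IH H hlt a' b' hH, Subgroup.map_bot] at h2
      exact eq_bot_iff.2 h2

/-- Degrees in `{1, a, b}`: derived length at most three. -/
theorem main_aux : ∀ (n : ℕ) (G : Type u) [Group G] [Fintype G], Nat.card G = n →
    ∀ a b : ℕ, DegIn G a b → derivedSeries G 3 = ⊥ := by
  classical
  intro n
  induction n using Nat.strong_induction_on with
  | _ n IH =>
    intro G _ _ hn a₀ b₀ h₀
    obtain ⟨a, b, hab, h⟩ : ∃ a b : ℕ, a ≤ b ∧ DegIn G a b := by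
      rcases le_total a₀ b₀ with hle | hle
      exacts [⟨a₀, b₀, hle, h₀⟩, ⟨b₀, a₀, hle, h₀.symm⟩]
    by_cases ha : ∃ χ : IrrCharacter G, charDegree (χ : G → ℂ) = a
    swap
    · exact derived_three_of_two (m := b) fun χ => by
        rcases h χ with h1 | h1 | h1
        exacts [Or.inl h1, absurd ⟨χ, h1⟩ ha, Or.inr h1]
    by_cases hb : ∃ χ : IrrCharacter G, charDegree (χ : G → ℂ) = b
    swap
    · exact derived_three_of_two (m := a) fun χ => by
        rcases h χ with h1 | h1 | h1
        exacts [Or.inl h1, Or.inr h1, absurd ⟨χ, h1⟩ hb]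
    have hapos : 0 < a := by obtain ⟨χ, rfl⟩ := ha; exact Char.TwoDeg.deg_pos χ
    by_cases hab' : a = b ∨ a = 1
    · exact derived_three_of_two (m := b) fun χ => by
        rcases h χ with h1 | h1 | h1
        · exact Or.inl h1
        · rcases hab' with h2 | h2
          exacts [Or.inr (h1.trans h2), Or.inl (h1.trans h2)]
        · exact Or.inr h1
    rw [not_or] at hab'
    have ha1 : 1 < a := by omega
    have hlt : a < b := lt_of_le_of_ne hab hab'.1
    by_cases hcop : a.Coprime b
    swap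
    · obtain ⟨p, hp, hpa, hpb⟩ := Nat.Prime.not_coprime_iff_dvd.1 hcop
      haveI := Fact.mk hp
      exact derived_three_of_common_prime h hlt hpa hpb hb
        fun H _ hH a' b' hd => IH _ (hn ▸ hH) H rfl a' b' hd
    by_cases hG : commutator G ≤ derivedSeries G 2
    swap
    · exact derived_three_of_metabelian h ha1 (by omega) hcop hG ha hb
    -- the derived subgroup is perfect
    have hperf : derivedSeries G 3 = commutator G := by
      have h2 : derivedSeries G 2 = derivedSeries G 1 :=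
        le_antisymm (derivedSeries_antitone G one_le_two) (derivedSeries_one G ▸ hG)
      rw [derivedSeries_succ, h2, ← derivedSeries_succ, h2, derivedSeries_one]
    by_contra hne
    rw [hperf] at hne
    obtain ⟨χ, hχ⟩ := ha
    obtain ⟨ψ, hψ⟩ := hb
    refine false_of_perfect h hlt ha1 hcop hne (fun M hM hMne => ?_) hχ hψ
    haveI := Fintype.ofFinite (G ⧸ M)
    rw [← hperf]
    refine derivedSeries_le_of_quotient M (IH _ ?_ (G ⧸ M) rfl a b (h.quotient M))
    rw [← hn, ← Subgroup.index_eq_card, ← M.card_mul_index]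
    exact lt_mul_left (Nat.pos_of_ne_zero Subgroup.index_ne_zero_of_finite)
      (Subgroup.one_lt_card_iff_ne_bot M |>.2 hMne)

end Cfsg.Agent.Block.ThreeDeg
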