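import Cfsg.Agent.Lib.Block.PrimeDegreesThree
import Cfsg.Agent.Lib.Block.NormalDefect
import Cfsg.Agent.Lib.Char.InductionRing
import Cfsg.Agent.S4458

/-!
Groups whose irreducible degrees lie in `{1, a, b}`: elementary lemmas.
-/

set_option autoImplicit false
set_option linter.unusedSectionVars false
set_option linter.style.haveILetI false

namespace Cfsg.Agent.Block.ThreeDeg

open Cfsg Cfsg.Agent Cfsg.Agent.Char Cfsg.Agent.Block
open scoped commutatorElement ComplexConjugate

universe u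

/-- All degrees lie in `{1, a, b}`. -/
def DegIn (G : Type u) [Group G] (a b : ℕ) : Prop :=
  ∀ χ : IrrCharacter G, charDegree (χ : G → ℂ) = 1 ∨ charDegree (χ : G → ℂ) = a ∨
    charDegree (χ : G → ℂ) = b

theorem DegIn.symm {G : Type u} [Group G] {a b : ℕ} (h : DegIn G a b) : DegIn G b a :=
  fun χ => (h χ).imp_right Or.symm

variable {G : Type u} [Group G] [Finite G]

theorem DegIn.quotient {a b : ℕ} (h : DegIn G a b) (N : Subgroup G) [N.Normal] :
    DegIn (G ⧸ N) a b := by
  intro χ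
  have := h ⟨fun g => (χ : G ⧸ N → ℂ) (QuotientGroup.mk' N g),
    IsIrr.comp_surjective _ (QuotientGroup.mk'_surjective N) χ.2⟩
  simpa [charDegree] using this

theorem derivedSeries_le_of_quotient (N : Subgroup G) [N.Normal] {n : ℕ}
    (h : derivedSeries (G ⧸ N) n = ⊥) : derivedSeries G n ≤ N := by
  intro g hg
  have h1 := map_derivedSeries_le_derivedSeries (QuotientGroup.mk' N) n (Subgroup.mem_map_of_mem _ hg)
  rw [h, Subgroup.mem_bot] at h1
  exact (QuotientGroup.eq_one_iff g).1 h1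

/-- Shifting the derived series into a subgroup. -/
theorem series_succ {H : Subgroup G} {i k : ℕ}
    (h : derivedSeries G i ≤ (derivedSeries H k).map H.subtype) :
    derivedSeries G (i + 1) ≤ (derivedSeries H (k + 1)).map H.subtype := by
  rw [derivedSeries_succ, derivedSeries_succ, Subgroup.map_commutator]
  exact Subgroup.commutator_mono h h

theorem comm_of_all_linear (h : ∀ χ : IrrCharacter G, charDegree (χ : G → ℂ) = 1) :
    commutator G = ⊥ := by
  rw [commutator_def, eq_bot_iff, Subgroup.commutator_le]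
  intro x _ y _
  rw [Subgroup.mem_bot, commutatorElement_eq_one_iff_mul_comm]
  exact (comm_iff_linear G).2 h x y

/-- Two degrees: the second derived subgroup is trivial. -/
theorem derived_two {m : ℕ}
    (h : ∀ χ : IrrCharacter G, charDegree (χ : G → ℂ) = 1 ∨ charDegree (χ : G → ℂ) = m) :
    derivedSeries G 2 = ⊥ := by
  rw [derivedSeries_succ, derivedSeries_one]
  by_cases hall : ∀ χ : IrrCharacter G, charDegree (χ : G → ℂ) = 1
  · rw [comm_of_all_linear hall]
    exact Subgroup.commutator_bot_left _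
  push Not at hall
  obtain ⟨χ, hχ⟩ := hall
  have hm : charDegree (χ : G → ℂ) = m := (h χ).resolve_left hχ
  rw [eq_bot_iff, Subgroup.commutator_le]
  intro x hx y hy
  rw [Subgroup.mem_bot, commutatorElement_eq_one_iff_mul_comm]
  exact Cfsg.Agent.S4458.result m h ⟨χ, hm⟩ (hm ▸ hχ) x hx y hy

theorem derived_three_of_two {m : ℕ}
    (h : ∀ χ : IrrCharacter G, charDegree (χ : G → ℂ) = 1 ∨ charDegree (χ : G → ℂ) = m) :
    derivedSeries G 3 = ⊥ := by
  rw [derivedSeries_succ, derived_two h, Subgroup.commutator_bot_left]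

/-- Degrees of a normal subgroup. -/
theorem exists_over_deg [Fintype G] (H : Subgroup G) [H.Normal] [Fintype H] (θ : IrrCharacter H) :
    ∃ (χ : IrrCharacter G) (e : ℕ),
      charDegree (χ : G → ℂ) = e * charDegree (θ : H → ℂ) ∧ e ∣ H.index := by
  obtain ⟨χ, hχ⟩ := exists_over H θ
  obtain ⟨e, he, hed⟩ := Ext.ratio_dvd_index' χ.2 θ.2 hχ
  exact ⟨χ, e, PIto.charDeg_eq (by rw [he, charDeg_spec' θ, Nat.cast_mul]), hed⟩

/-- A subgroup containing all kernels of the small degree characters. -/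
theorem le_of_kills [Fintype G] (T D : Subgroup G)
    (h : ∀ φ : IrrCharacter G, charDegree (φ : G → ℂ) < T.index →
      ∀ g ∈ D, (φ : G → ℂ) g = (φ : G → ℂ) 1) : D ≤ T := by
  classical
  haveI := Fintype.ofFinite T
  intro g hg
  set ψ := indFun T (fun _ : T => (1 : ℂ)) with hψdef
  have hψ : IsCharacter G ψ := isCharacter_indFun T (IsIrr.isCharacter isIrr_one)
  obtain ⟨a, ha, hdec⟩ := IsChar.exists_decomp_inner hψ
  have hψ1 : ψ 1 = (T.index : ℂ) := by rw [hψdef, indFun_one_eq, mul_one]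
  have hsum : T.index = ∑ φ : IrrCharacter G, a φ * charDegree (φ : G → ℂ) := by
    have : (T.index : ℂ) = ((∑ φ : IrrCharacter G, a φ * charDegree (φ : G → ℂ) : ℕ) : ℂ) := by
      rw [← hψ1, congrFun hdec 1, sum_irr_apply, Nat.cast_sum]
      exact Finset.sum_congr rfl fun φ _ => by rw [charDeg_spec' φ, Nat.cast_mul]
    exact_mod_cast this
  let one : IrrCharacter G := ⟨fun _ => 1, isIrr_one⟩
  have hone : 0 < a one := by
    refine Nat.pos_of_ne_zero fun h0 => ?_
    have h1 := ha one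
    rw [h0, Nat.cast_zero, hψdef, classInner_indFun T _ (IsIrr.classFun one.2)] at h1
    have h2 := classInner_self_irr (isIrr_one (G := T))
    exact one_ne_zero (h2.symm.trans h1)
  have hval : ∀ φ : IrrCharacter G, a φ ≠ 0 → (φ : G → ℂ) g = (φ : G → ℂ) 1 := by
    intro φ hφ
    by_cases he : φ = one
    · subst he; rfl
    refine h φ ?_ g hg
    have h2 : a φ * charDegree (φ : G → ℂ) + a one * charDegree (one : G → ℂ) ≤ T.index := by
      rw [hsum, ← Finset.sum_pair (f := fun φ : IrrCharacter G => a φ * charDegree (φ : G → ℂ)) he]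
      exact Finset.sum_le_sum_of_subset (Finset.subset_univ _)
    have h3 : 0 < a one * charDegree (one : G → ℂ) := Nat.mul_pos hone (Char.TwoDeg.deg_pos one)
    have h4 : charDegree (φ : G → ℂ) ≤ a φ * charDegree (φ : G → ℂ) :=
      Nat.le_mul_of_pos_left _ (Nat.pos_of_ne_zero hφ)
    omega
  have hψg : ψ g = ψ 1 := by
    rw [congrFun hdec g, congrFun hdec 1, sum_irr_apply, sum_irr_apply]
    refine Finset.sum_congr rfl fun φ _ => ?_
    by_cases h0 : a φ = 0
    · simp [h0]
    · rw [hval φ h0]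
  rw [hψ1, hψdef] at hψg
  simp only [indFun] at hψg
  have hc : (Nat.card T : ℂ) ≠ 0 := Nat.cast_ne_zero.2 Nat.card_pos.ne'
  rw [inv_mul_eq_iff_eq_mul₀ hc, ← Nat.cast_mul, T.card_mul_index] at hψg
  have heq : ∀ x : G, extendByZero T (fun _ : T => (1 : ℂ)) x = if x ∈ T then 1 else 0 := fun x => by
    by_cases hx : x ∈ T
    · rw [if_pos hx, extendByZero_of_mem _ hx]
    · rw [if_neg hx, extendByZero_not_mem _ hx]
  simp only [heq, Finset.sum_boole, Nat.cast_inj] at hψg
  rw [Nat.card_eq_fintype_card, ← Finset.card_univ, Finset.card_filter_eq_iff] at hψg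
  have := hψg 1 (Finset.mem_univ _)
  simpa using this

/-- A monomial character kills the commutator of what all smaller degrees kill. -/
theorem kills_commutator [Fintype G] (D : Subgroup G) [hD : D.Normal] (χ : IrrCharacter G)
    (U : Subgroup G) (l : U →* ℂˣ) (hχ : (χ : G → ℂ) = indFun U (fun h => (l h : ℂ)))
    (h : ∀ φ : IrrCharacter G, charDegree (φ : G → ℂ) < charDegree (χ : G → ℂ) →
      ∀ g ∈ D, (φ : G → ℂ) g = (φ : G → ℂ) 1) :
    ∀ g ∈ ⁅D, D⁆, (χ : G → ℂ) g = (χ : G → ℂ) 1 := by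
  classical
  haveI := Fintype.ofFinite U
  have hidx : charDegree (χ : G → ℂ) = U.index := PIto.charDeg_eq (by rw [hχ, indFun_one_eq]; simp)
  have hDU : D ≤ U := le_of_kills U D fun φ hφ => h φ (by omega)
  intro g hg
  have hDk : ∀ k ∈ ⁅D, D⁆, ∀ hk : k ∈ U, l ⟨k, hk⟩ = 1 := by
    intro k hk
    have h1 : ⁅D, D⁆ ≤ (l.ker).map U.subtype := by
      rw [Subgroup.commutator_le]
      intro p hp q hq
      refine ⟨⁅(⟨p, hDU hp⟩ : U), (⟨q, hDU hq⟩ : U)⁆, ?_, by simp [map_commutatorElement]⟩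
      simp [map_commutatorElement, commutatorElement_eq_one_iff_mul_comm, mul_comm]
    obtain ⟨y, hy, rfl⟩ := h1 hk
    exact fun _ => hy
  have hval : ∀ x : G, ∀ k ∈ ⁅D, D⁆,
      extendByZero U (fun h => (l h : ℂ)) (x⁻¹ * k * x) = 1 := by
    intro x k hk
    have h1 : x⁻¹ * k * x ∈ ⁅D, D⁆ := (Subgroup.commutator_normal D D).conj_mem' k hk x
    have h2 : x⁻¹ * k * x ∈ U := hDU (Subgroup.commutator_le_self D h1)
    rw [extendByZero_of_mem _ h2, hDk _ h1 h2, Units.val_one]
  rw [hχ]
  simp only [indFun]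
  congr 1
  exact Finset.sum_congr rfl fun x _ => by rw [hval x g hg, hval x 1 (one_mem _)]

theorem eq_one_of_kills [Fintype G] {g : G}
    (h : ∀ χ : IrrCharacter G, (χ : G → ℂ) g = (χ : G → ℂ) 1) : g = 1 :=
  isConj_one_left.mp ((isConj_iff_irr g 1).mpr h)

theorem linear_kills {χ : IrrCharacter G} (h : charDegree (χ : G → ℂ) = 1) :
    ∀ g ∈ commutator G, (χ : G → ℂ) g = (χ : G → ℂ) 1 := by
  intro g hg
  obtain ⟨l, hl⟩ := linearHom_of_isCharacter (IsIrr.isCharacter χ.2) (by
    rw [charDeg_spec' χ, h, Nat.cast_one])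
  simp [hl, MonoidHom.mem_ker.1 (Abelianization.commutator_subset_ker l hg)]

end Cfsg.Agent.Block.ThreeDeg
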