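import Cfsg.Agent.Lib.Block.ThreeDeg.Basic
import Cfsg.Agent.S0168

/-!
No group has derived subgroup perfect and minimal normal, with two coprime nonlinear degrees.
-/

set_option autoImplicit false
set_option linter.unusedSectionVars false
set_option linter.style.haveILetI false

namespace Cfsg.Agent.Block.ThreeDeg

open Cfsg Cfsg.Agent Cfsg.Agent.Char Cfsg.Agent.Block
open scoped commutatorElement ComplexConjugate

universe u

variable {G : Type u} [Group G] [Fintype G]

theorem inner_shift (f h w : G → ℂ) :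
    classInner (fun g => f g * conj (h g)) w = classInner f (fun g => h g * w g) := by
  simp only [classInner, map_mul]
  congr 1
  exact Finset.sum_congr rfl fun g _ => by ring

theorem conj_linear (l : G →* ℂˣ) (g : G) : conj (l g : ℂ) = ((l⁻¹ : G →* ℂˣ) g : ℂ) := by
  rw [← IsIrr.apply_inv (isIrr_linear l) g, map_inv, MonoidHom.inv_apply]

/-- A character without linear constituents. -/
theorem split_degree {a b : ℕ} (h : DegIn G a b) (hab : a ≠ b) {ξ : G → ℂ} (hξ : IsCharacter G ξ)
    {D : ℕ} (hD : ξ 1 = (D : ℂ))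
    (hlin : ∀ φ : IrrCharacter G, charDegree (φ : G → ℂ) = 1 → classInner ξ (φ : G → ℂ) = 0) :
    ∃ m n : ℕ, D = m * a + n * b ∧
      (∀ φ : IrrCharacter G, charDegree (φ : G → ℂ) = b → classInner ξ (φ : G → ℂ) ≠ 0 → n ≠ 0) ∧
      (∀ φ : IrrCharacter G, charDegree (φ : G → ℂ) = a → classInner ξ (φ : G → ℂ) ≠ 0 → m ≠ 0) := by
  classical
  obtain ⟨c, hc, hdec⟩ := IsChar.exists_decomp_inner hξ
  have hsum : D = ∑ φ : IrrCharacter G, c φ * charDegree (φ : G → ℂ) := by
    have : (D : ℂ) = ((∑ φ : IrrCharacter G, c φ * charDegree (φ : G → ℂ) : ℕ) : ℂ) := by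
      rw [← hD, congrFun hdec 1, sum_irr_apply, Nat.cast_sum]
      exact Finset.sum_congr rfl fun φ _ => by rw [charDeg_spec' φ, Nat.cast_mul]
    exact_mod_cast this
  refine ⟨∑ φ : IrrCharacter G, if charDegree (φ : G → ℂ) = a then c φ else 0,
    ∑ φ : IrrCharacter G, if charDegree (φ : G → ℂ) = b then c φ else 0, ?_, ?_, ?_⟩
  · rw [hsum, Finset.sum_mul, Finset.sum_mul, ← Finset.sum_add_distrib]
    refine Finset.sum_congr rfl fun φ _ => ?_
    by_cases ha : charDegree (φ : G → ℂ) = a
    · rw [if_pos ha, if_neg (ha ▸ hab), ha]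
      simp
    by_cases hb : charDegree (φ : G → ℂ) = b
    · rw [if_neg ha, if_pos hb, hb]
      simp
    · have h1 : charDegree (φ : G → ℂ) = 1 := by
        rcases h φ with h1 | h1 | h1
        exacts [h1, absurd h1 ha, absurd h1 hb]
      have h0 : c φ = 0 := by
        have := (hc φ).symm.trans (hlin φ h1)
        exact_mod_cast this
      simp [h0, ha, hb]
  all_goals
    intro φ hφ hne h0
    refine hne ?_
    have := Finset.sum_eq_zero_iff.1 h0 φ (Finset.mem_univ _)
    rw [if_pos hφ] at this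
    rw [hc φ, this, Nat.cast_zero]

variable {a b : ℕ}

/-- Products of two degree `a` characters that are no linear twists. -/
theorem no_b_of_not_twist (h : DegIn G a b) (hab : a < b) (hcop : a.Coprime b) {α β ψ : G → ℂ}
    (hα : IsIrrCharacter G α) (hα1 : α 1 = (a : ℂ)) (hβ : IsIrrCharacter G β)
    (hβ1 : β 1 = (a : ℂ)) (hψ : IsIrrCharacter G ψ) (hψ1 : ψ 1 = (b : ℂ))
    (htw : ∀ l : G →* ℂˣ, α ≠ fun g => (l g : ℂ) * β g) :
    classInner (fun g => α g * conj (β g)) ψ = 0 := by
  by_contra hne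
  have ha0 : 0 < a := Nat.pos_of_ne_zero fun h0 => IsIrr.one_ne_zero hα (by rw [hα1, h0]; simp)
  have hξ : IsCharacter G (fun g => α g * conj (β g)) :=
    IsChar.mul (IsIrr.isCharacter hα) (IsChar.conj (IsIrr.isCharacter hβ))
  obtain ⟨m, n, hD, hn, -⟩ := split_degree h hab.ne hξ (D := a * a) (by simp [hα1, hβ1])
    (fun φ hφ => by
      obtain ⟨l, hl⟩ := linearHom_of_isCharacter (IsIrr.isCharacter φ.2) (by
        rw [charDeg_spec' φ, hφ, Nat.cast_one])
      by_contra hne
      rw [inner_shift] at hne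
      have he : (fun g => β g * (φ : G → ℂ) g) = fun g => (l g : ℂ) * β g :=
        funext fun g => by rw [congrFun hl g, mul_comm]
      rw [he] at hne
      exact htw l (eq_of_constituent_irr hα (IsIrr.mul_linear hβ l) hne))
  have hn0 : n ≠ 0 := hn ⟨ψ, hψ⟩ (PIto.charDeg_eq hψ1) hne
  have hdvd : a ∣ n * b := (Nat.dvd_add_right (dvd_mul_left a m)).1 (hD ▸ dvd_mul_left a a)
  have han : a ≤ n := Nat.le_of_dvd (Nat.pos_of_ne_zero hn0) (hcop.dvd_of_dvd_mul_right hdvd)
  have h1 : a * a < a * b := Nat.mul_lt_mul_of_pos_left hab ha0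
  have h2 : a * b ≤ n * b := Nat.mul_le_mul_right b han
  omega

/-- A degree `a` character times its conjugate has no constituent of degree `b`. -/
theorem no_b_self (h : DegIn G a b) (hab : a < b) (hcop : a.Coprime b)
    (hne : commutator G ≠ ⊥)
    (hker : ∀ φ : IrrCharacter G, charDegree (φ : G → ℂ) ≠ 1 → ∀ g ∈ commutator G,
      (φ : G → ℂ) g = (φ : G → ℂ) 1 → g = 1)
    {χ ψ : G → ℂ} (hχ : IsIrrCharacter G χ) (hχ1 : χ 1 = (a : ℂ)) (ha : a ≠ 1)
    (hψ : IsIrrCharacter G ψ) (hψ1 : ψ 1 = (b : ℂ)) :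
    classInner (fun g => χ g * conj (χ g)) ψ = 0 := by
  classical
  by_contra hc
  have ha0 : 0 < a := Nat.pos_of_ne_zero fun h0 => IsIrr.one_ne_zero hχ (by rw [hχ1, h0]; simp)
  rw [inner_shift] at hc
  set ξ : G → ℂ := fun g => χ g * ψ g with hξdef
  have hξ : IsCharacter G ξ := IsChar.mul (IsIrr.isCharacter hχ) (IsIrr.isCharacter hψ)
  have hc' : classInner ξ χ ≠ 0 := by
    rw [← classInner_conj_symm]
    simpa using hc
  have hlin : ∀ φ : IrrCharacter G, charDegree (φ : G → ℂ) = 1 →
      classInner ξ (φ : G → ℂ) = 0 := by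
    intro φ hφ
    obtain ⟨l, hl⟩ := linearHom_of_isCharacter (IsIrr.isCharacter φ.2) (by
      rw [charDeg_spec' φ, hφ, Nat.cast_one])
    by_contra hne
    have he : ξ = fun g => ψ g * conj (conj (χ g)) := funext fun g => by
      rw [Complex.conj_conj, hξdef, mul_comm]
    rw [he, inner_shift] at hne
    have he2 : (fun g => conj (χ g) * (φ : G → ℂ) g) = fun g => (l g : ℂ) * conj (χ g) :=
      funext fun g => by rw [congrFun hl g, mul_comm]
    rw [he2] at hne
    have heq := eq_of_constituent_irr hψ (IsIrr.mul_linear (IsIrr.conj hχ) l) hne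
    have h1 := congrFun heq 1
    simp only [map_one, Units.val_one, one_mul, hψ1, hχ1, Complex.conj_natCast, Nat.cast_inj] at h1
    omega
  obtain ⟨m, n, hD, hn, hm⟩ := split_degree h hab.ne hξ (D := a * b) (by simp [hξdef, hχ1, hψ1]) hlin
  have hm0 : m ≠ 0 := hm ⟨χ, hχ⟩ (PIto.charDeg_eq hχ1) hc'
  have hn0 : n = 0 := by
    by_contra hn0
    have hdvd : a ∣ n * b := (Nat.dvd_add_right (dvd_mul_left a m)).1 (hD ▸ dvd_mul_right a b)
    have han : a ≤ n := Nat.le_of_dvd (Nat.pos_of_ne_zero hn0) (hcop.dvd_of_dvd_mul_right hdvd)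
    have h2 : a * b ≤ n * b := Nat.mul_le_mul_right b han
    have h3 : 0 < m * a := Nat.mul_pos (Nat.pos_of_ne_zero hm0) ha0
    omega
  obtain ⟨c, hc2, hdec⟩ := IsChar.exists_decomp_inner hξ
  -- on the derived subgroup every constituent agrees with `χ`
  have hφ : ∀ φ : IrrCharacter G, c φ ≠ 0 → ∀ g ∈ commutator G, (φ : G → ℂ) g = χ g := by
    intro φ hφ0 g hg
    have hne' : classInner ξ (φ : G → ℂ) ≠ 0 := by
      rw [hc2 φ]
      exact_mod_cast hφ0
    have hdeg : charDegree (φ : G → ℂ) = a := by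
      rcases h φ with h1 | h1 | h1
      · exact absurd (hlin φ h1) hne'
      · exact h1
      · exact absurd hn0 (hn φ h1 hne')
    have h2 : classInner (fun g => (φ : G → ℂ) g * conj (χ g)) ψ ≠ 0 := by
      rw [inner_shift, ← classInner_conj_symm]
      simpa [hξdef] using hne'
    by_contra hgne
    refine h2 (no_b_of_not_twist h hab hcop φ.2 (by rw [charDeg_spec' φ, hdeg]) hχ hχ1 hψ hψ1
      fun l hl => hgne ?_)
    rw [congrFun hl g, MonoidHom.mem_ker.1 (Abelianization.commutator_subset_ker l hg),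
      Units.val_one, one_mul]
  have hval : ∀ g ∈ commutator G, χ g * ψ g = χ g * (b : ℂ) := by
    intro g hg
    have e : ∀ x ∈ commutator G, ξ x = (∑ φ : IrrCharacter G, (c φ : ℂ)) * χ x := fun x hx => by
      rw [congrFun hdec x, sum_irr_apply, Finset.sum_mul]
      refine Finset.sum_congr rfl fun φ _ => ?_
      by_cases h0 : c φ = 0
      · simp [h0]
      · rw [hφ φ h0 x hx]
    have e1 := e 1 (one_mem _)
    simp only [hξdef, hχ1, hψ1] at e1
    have hS : (∑ φ : IrrCharacter G, (c φ : ℂ)) = b :=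
      mul_right_cancel₀ (Nat.cast_ne_zero.2 ha0.ne') (e1.symm.trans (mul_comm _ _))
    have e2 := e g hg
    rw [hS, hξdef] at e2
    exact e2.trans (mul_comm _ _)
  have hb1 : charDegree ψ ≠ 1 := by
    rw [PIto.charDeg_eq hψ1]
    omega
  have hvan : ∀ g ∈ commutator G, g ≠ 1 → χ g = 0 := by
    intro g hg hg1
    by_contra h0
    exact hg1 (hker ⟨ψ, hψ⟩ hb1 g hg ((mul_left_cancel₀ h0 (hval g hg)).trans hψ1.symm))
  haveI := Fintype.ofFinite ↥(commutator G)
  have hin : classInner (fun n : commutator G => χ n) (fun _ => 1) ≠ 0 := by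
    rw [classInner, Finset.sum_eq_single (1 : commutator G)]
    · simp [hχ1, ha0.ne', Nat.card_pos.ne']
    · intro n _ hn1
      rw [hvan n n.2 (fun e => hn1 (Subtype.ext e)), zero_mul]
    · simp
  rcases avgN_irr (commutator G) hχ with ⟨h0, -⟩ | ⟨hk, -⟩
  · exact hin h0
  · refine hne (eq_bot_iff.2 fun g hg => Subgroup.mem_bot.2 ?_)
    by_contra hg1
    have := hk ⟨g, hg⟩
    rw [hvan g hg hg1, hχ1] at this
    exact ha0.ne' (by exact_mod_cast this.symm)

theorem no_b (h : DegIn G a b) (hab : a < b) (hcop : a.Coprime b) (hne : commutator G ≠ ⊥)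
    (hker : ∀ φ : IrrCharacter G, charDegree (φ : G → ℂ) ≠ 1 → ∀ g ∈ commutator G,
      (φ : G → ℂ) g = (φ : G → ℂ) 1 → g = 1)
    {α β ψ : G → ℂ} (ha : a ≠ 1) (hα : IsIrrCharacter G α) (hα1 : α 1 = (a : ℂ))
    (hβ : IsIrrCharacter G β)
    (hβ1 : β 1 = (a : ℂ)) (hψ : IsIrrCharacter G ψ) (hψ1 : ψ 1 = (b : ℂ)) :
    classInner (fun g => α g * conj (β g)) ψ = 0 := by
  by_cases htw : ∀ l : G →* ℂˣ, α ≠ fun g => (l g : ℂ) * β g
  · exact no_b_of_not_twist h hab hcop hα hα1 hβ hβ1 hψ hψ1 htw
  push Not at htw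
  obtain ⟨l, rfl⟩ := htw
  have e : classInner (fun g => (l g : ℂ) * β g * conj (β g)) ψ =
      classInner (fun g => β g * conj (β g)) (fun g => ((l⁻¹ : G →* ℂˣ) g : ℂ) * ψ g) := by
    simp only [classInner, map_mul]
    congr 1
    refine Finset.sum_congr rfl fun g _ => ?_
    have : conj ((l⁻¹ : G →* ℂˣ) g : ℂ) = (l g : ℂ) := by
      rw [conj_linear]; simp
    rw [this]
    ring
  rw [e]
  exact no_b_self h hab hcop hne hker hβ hβ1 ha (IsIrr.mul_linear hψ _) (by simp [hψ1])

theorem false_of_perfect (h : DegIn G a b) (hab : a < b) (ha1 : 1 < a) (hcop : a.Coprime b)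
    (hne : commutator G ≠ ⊥)
    (hmin : ∀ M : Subgroup G, M.Normal → M ≠ ⊥ → commutator G ≤ M)
    {χ ψ : IrrCharacter G} (hχ : charDegree (χ : G → ℂ) = a) (hψ : charDegree (ψ : G → ℂ) = b) :
    False := by
  classical
  have hfaith : ∀ φ : IrrCharacter G, charDegree (φ : G → ℂ) ≠ 1 → ∀ g : G,
      (φ : G → ℂ) g = (φ : G → ℂ) 1 → g = 1 := by
    intro φ hφ g hg
    set K := charKer (IsIrr.isCharacter φ.2)
    haveI : K.Normal := charKer_normal _
    by_contra hg1
    have hle := hmin K inferInstance fun e => hg1 (Subgroup.mem_bot.1 (e ▸ (mem_charKer _).2 hg))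
    obtain ⟨φ', hφ', he⟩ := IsIrr.exists_factor_quotient φ.2 K fun k hk => (mem_charKer _).1 hk
    have h1 := IsIrr.one_of_comm (G := G ⧸ K) (fun u v => by
      induction u using QuotientGroup.induction_on with | _ u =>
      induction v using QuotientGroup.induction_on with | _ v =>
      rw [← QuotientGroup.mk_mul, ← QuotientGroup.mk_mul, QuotientGroup.eq]
      rw [show (u * v)⁻¹ * (v * u) = ⁅v⁻¹, u⁻¹⁆ by rw [commutatorElement_def]; group]
      exact hle (Subgroup.commutator_mem_commutator (Subgroup.mem_top _) (Subgroup.mem_top _))) hφ'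
    rw [← QuotientGroup.mk_one, he, charDeg_spec' φ] at h1
    exact hφ (by exact_mod_cast h1)
  have hker : ∀ φ : IrrCharacter G, charDegree (φ : G → ℂ) ≠ 1 → ∀ g ∈ commutator G,
      (φ : G → ℂ) g = (φ : G → ℂ) 1 → g = 1 := fun φ hφ g _ => hfaith φ hφ g
  have hχ1 : (χ : G → ℂ) 1 = (a : ℂ) := by rw [charDeg_spec' χ, hχ]
  obtain ⟨k, ρ, -, hρ, -, -⟩ := IsIrr.exists_rep χ.2
  have hinj : Function.Injective ρ := by
    refine (injective_iff_map_eq_one ρ).2 fun g hg => hfaith χ (by omega) g ?_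
    rw [← hρ, Representation.character, Representation.character, hg, map_one ρ]
  have hpow : ∀ i : ℕ, IsCharacter G (fun g => ρ.character g ^ i) := by
    intro i
    induction i with
    | zero => simpa using IsChar.one (G := G)
    | succ i ih =>
      simp only [pow_succ]
      exact IsChar.mul ih (hρ ▸ IsIrr.isCharacter χ.2)
  have hzero : ∀ (i : ℕ) (ζ : IrrCharacter G), charDegree (ζ : G → ℂ) = b →
      classInner (fun g => ρ.character g ^ i) (ζ : G → ℂ) = 0 := by
    intro i
    induction i with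
    | zero =>
      intro ζ hζ
      simp only [pow_zero]
      refine classInner_irr_ne isIrr_one ζ.2 fun e => ?_
      have := congrFun e 1
      rw [charDeg_spec' ζ, hζ] at this
      have : b = 1 := by exact_mod_cast this.symm
      omega
    | succ i ih =>
      intro ζ hζ
      obtain ⟨c, hc, hdec⟩ := IsChar.exists_decomp_inner (hpow i)
      have hexp : (fun g => ρ.character g ^ (i + 1)) =
          ∑ φ : IrrCharacter G, (c φ : ℂ) • fun g => (φ : G → ℂ) g * (χ : G → ℂ) g := by
        funext g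
        have := congrFun hdec g
        rw [sum_irr_apply] at this
        rw [pow_succ, this, Finset.sum_mul, Finset.sum_apply, hρ]
        exact Finset.sum_congr rfl fun φ _ => by rw [Pi.smul_apply, smul_eq_mul, mul_assoc]
      rw [hexp, classInner_sum_left]
      refine Finset.sum_eq_zero fun φ _ => ?_
      rw [classInner_smul_left]
      rcases h φ with h1 | h1 | h1
      · obtain ⟨l, hl⟩ := linearHom_of_isCharacter (IsIrr.isCharacter φ.2) (by
          rw [charDeg_spec' φ, h1, Nat.cast_one])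
        rw [classInner_irr_ne (by simp only [hl]; exact IsIrr.mul_linear χ.2 l) ζ.2, mul_zero]
        intro e
        have := congrFun e 1
        rw [charDeg_spec' φ, h1, hχ1, charDeg_spec' ζ, hζ, Nat.cast_one, one_mul] at this
        have : a = b := by exact_mod_cast this
        omega
      · have := no_b h hab hcop hne hker (by omega) φ.2 (by rw [charDeg_spec' φ, h1])
          (IsIrr.conj χ.2) (by rw [hχ1, Complex.conj_natCast]) ζ.2 (by rw [charDeg_spec' ζ, hζ])
        simp only [Complex.conj_conj] at this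
        rw [this, mul_zero]
      · have h0 : c φ = 0 := by
          have := (hc φ).symm.trans (ih φ h1)
          exact_mod_cast this
        rw [h0, Nat.cast_zero, zero_mul]
  obtain ⟨i, -, hi⟩ := Cfsg.Agent.S0168.result ρ hinj (ψ : G → ℂ) ψ.2
  exact hi (hzero i ψ hψ)

end Cfsg.Agent.Block.ThreeDeg
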